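import Cfsg.Agent.SporadicB.HePerm.Final
import Cfsg.Agent.SporadicB.HeUpper
set_option linter.all false

/-!
# Conjugacies between involutions of the presented Held group (helper40)

Checked in the faithful permutation representation on 2058 points.
-/

set_option autoImplicit false
set_option Elab.async false

namespace Cfsg.Agent.KFacts.MulHe.Conj

open Cfsg.Spor Cfsg.Spor.He Cfsg.Agent.SporadicB.HePerm

theorem phi_injective : Function.Injective phi := by
  obtain ⟨h1, h2⟩ := Cfsg.Agent.SporadicB.HeUpper.card_he_le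
  exact (injective_of_card_le h2).1

theorem of_mul_self (x : Gen) : (PresentedGroup.of x : Cfsg.Spor.He) * PresentedGroup.of x = 1 := by
  apply phi_injective
  rw [map_mul, phi_of, map_one, pm_mul_self]

theorem wd_append (v w : List Gen) : wd (v ++ w) = wd v * wd w := by
  unfold wd
  rw [List.map_append, List.prod_append]

theorem wd_cons (x : Gen) (w : List Gen) : wd (x :: w) = PresentedGroup.of x * wd w := by
  unfold wd
  rw [List.map_cons, List.prod_cons]

theorem wd_nil : wd [] = 1 := rfl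

theorem wd_reverse (w : List Gen) : wd w.reverse = (wd w)⁻¹ := by
  induction w with
  | nil => rw [List.reverse_nil, wd_nil, inv_one]
  | cons x w ih =>
    rw [List.reverse_cons, wd_append, ih, wd_cons x w, mul_inv_rev, wd_cons x [], wd_nil, mul_one]
    congr 1
    exact (inv_eq_of_mul_eq_one_left (of_mul_self x)).symm

/-- the check for `w v w⁻¹ = t` -/
def cj (w v : List Gen) (t : Gen) : Bool := good (w ++ (v ++ (w.reverse ++ [t])))

theorem of_cj {w v : List Gen} {t : Gen} (h : cj w v t = true) :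
    wd w * wd v * (wd w)⁻¹ = PresentedGroup.of t := by
  have h1 : wd (w ++ (v ++ (w.reverse ++ [t]))) = 1 := by
    apply phi_injective
    rw [phi_wd, of_good h, map_one]
  rw [wd_append, wd_append, wd_append, wd_reverse, wd_cons, wd_nil, mul_one] at h1
  have h2 : wd w * wd v * (wd w)⁻¹ * PresentedGroup.of t = 1 := by
    rw [← h1]; group
  rw [eq_inv_of_mul_eq_one_left h2]
  exact inv_eq_of_mul_eq_one_left (of_mul_self t)

/-- `wd v` is conjugate to the generator `t`. -/
def Cj (v : List Gen) (t : Gen) : Prop := ∃ g : Cfsg.Spor.He, g * wd v * g⁻¹ = PresentedGroup.of t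

theorem of_cj' {w v : List Gen} {t : Gen} (h : cj w v t = true) : Cj v t := ⟨wd w, of_cj h⟩

theorem cj_b : Cj [.b] .a :=
  of_cj' (w := [.b, .c, .d, .e, .f, .d, .c, .b, .g, .d, .f, .c, .d, .c, .d, .b, .c]) (by decide +kernel)

theorem cj_c : Cj [.c] .a :=
  of_cj' (w := [.b, .c, .d, .e, .f, .d, .c, .g, .d, .f, .b, .c, .d, .c, .d]) (by decide +kernel)

theorem cj_e : Cj [.e] .d :=
  of_cj' (w := [.e, .d]) (by decide +kernel)

theorem cj_f : Cj [.f] .d :=
  of_cj' (w := [.f, .d]) (by decide +kernel)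

theorem cj_g : Cj [.g] .d :=
  of_cj' (w := [.g, .d]) (by decide +kernel)

theorem cj_ac : Cj [.a, .c] .d :=
  of_cj' (w := [.c, .d, .c, .d]) (by decide +kernel)

theorem cj_ad : Cj [.a, .d] .a :=
  of_cj' (w := [.b, .c, .d, .e, .f, .d, .g, .c, .d, .f, .b]) (by decide +kernel)

theorem cj_ae : Cj [.a, .e] .a :=
  of_cj' (w := [.b, .c, .d, .c, .d, .f, .d, .c, .d, .f, .c, .d, .b]) (by decide +kernel)

theorem cj_af : Cj [.a, .f] .a :=
  of_cj' (w := [.b, .c, .d, .e, .f, .d, .g, .c, .b]) (by decide +kernel)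

theorem cj_ag : Cj [.a, .g] .a :=
  of_cj' (w := [.b, .c, .d, .e, .g, .d, .f, .c, .b]) (by decide +kernel)

theorem cj_bd : Cj [.b, .d] .d :=
  of_cj' (w := [.c, .d, .c, .b, .a, .d, .c, .d, .e]) (by decide +kernel)

theorem cj_be : Cj [.b, .e] .d :=
  of_cj' (w := [.c, .d, .c, .b, .d, .c, .a]) (by decide +kernel)

theorem cj_bf : Cj [.b, .f] .d :=
  of_cj' (w := [.c, .d, .c, .b, .a, .d, .c, .d, .f, .e, .d]) (by decide +kernel)

theorem cj_bg : Cj [.b, .g] .d :=
  of_cj' (w := [.c, .d, .c, .b, .a, .d, .c, .d, .g, .e, .d]) (by decide +kernel)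

theorem cj_ce : Cj [.c, .e] .d :=
  of_cj' (w := [.c, .d, .e, .d, .c, .d]) (by decide +kernel)

theorem cj_cf : Cj [.c, .f] .d :=
  of_cj' (w := [.c, .d, .c, .b, .a, .d, .c, .d, .f, .e, .d, .c, .b]) (by decide +kernel)

theorem cj_cg : Cj [.c, .g] .d :=
  of_cj' (w := [.c, .d, .c, .b, .a, .d, .c, .d, .g, .e, .d, .c, .b]) (by decide +kernel)

theorem cj_ef : Cj [.e, .f] .d :=
  of_cj' (w := [.f, .d, .g]) (by decide +kernel)

theorem cj_eg : Cj [.e, .g] .d :=
  of_cj' (w := [.g, .d, .f]) (by decide +kernel)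

theorem cj_ab2 : Cj [.a, .b, .a, .b] .a :=
  of_cj' (w := [.b, .c, .d, .c, .f, .d, .c, .d, .f, .d, .c, .d, .c]) (by decide +kernel)

theorem cj_cdfg2 : Cj [.c, .d, .f, .g, .c, .d, .f, .g] .d :=
  of_cj' (w := [.c, .f, .g, .d, .e, .c]) (by decide +kernel)

theorem cj_x : Cj [.c, .d, .f, .c, .d, .f, .c, .d, .f, .c, .d, .f, .c, .d, .f] .a :=
  of_cj' (w := [.b, .c, .d, .e, .f, .d, .c, .b, .d, .c, .e, .d, .c, .d, .b, .c, .d, .f, .e, .d, .c, .b]) (by decide +kernel)

theorem cj_ax : Cj [.a, .c, .d, .f, .c, .d, .f, .c, .d, .f, .c, .d, .f, .c, .d, .f] .a :=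
  of_cj' (w := [.b, .c, .d, .e, .f, .d, .c, .b, .d, .c, .d, .c, .e, .d, .b, .c, .d, .f, .e, .d, .c, .b]) (by decide +kernel)

end Cfsg.Agent.KFacts.MulHe.Conj
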